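import Groth.Agent.Sga7.H729.Dict
import Groth.Agent.Sga7.H620.Growth
import Groth.Agent.Sga7.H620.Neutral
import Groth.Agent.Sga7.H260.Cover
import Groth.Agent.Grpsch.PicGrp
import Groth.Agent.Books.AlgPts

/-!
# Inputs of CORE

The four statements from which `H729.Core` derives `H729.Cond.CoreProp`.
-/

set_option autoImplicit false

universe u

open CategoryTheory MonoidalCategory CartesianMonoidalCategory MonObj GrpObj AlgebraicGeometry Limits
open Groth.Agent.Sga7.H620.Growth Groth.Agent.Sga7.H620.Neutral Groth.Agent.Grpsch.PicGrp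

namespace Groth.Agent.Sga7.H729.Inputs

section Rad

variable {K Ω : Type u} [Field K] [Field Ω] [Algebra K Ω] (A : Over (Spec (CommRingCat.of K))) [GrpObj A]

/-- The group generated by the points `σ z - z`, `z` an `l`-power torsion point. -/
noncomputable def WΩ (l : ℕ) : Subgroup (SGA7.Pts Ω A) :=
  Subgroup.closure {w | ∃ (σ : Ω ≃ₐ[K] Ω) (z : SGA7.Pts Ω A) (n : ℕ), z ^ (l ^ n) = 1 ∧ w = SGA7.dev σ z}

/-- The points fixed by the Galois group. -/
noncomputable def Fix : Subgroup (SGA7.Pts Ω A) where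
  carrier := {x | ∀ σ : Ω ≃ₐ[K] Ω, SGA7.galAct σ x = x}
  mul_mem' := by
    intro x y hx hy σ
    have h1 : SGA7.galAct σ (x * y) = SGA7.galAct σ x * SGA7.galAct σ y := by
      simp only [SGA7.galAct, MonObj.comp_mul]
    rw [h1, hx σ, hy σ]
  one_mem' := by
    intro σ
    simp only [SGA7.galAct, MonObj.comp_one]
  inv_mem' := by
    intro x hx σ
    have h1 : SGA7.galAct σ x⁻¹ = (SGA7.galAct σ x)⁻¹ := by
      simp only [SGA7.galAct, GrpObj.comp_inv]
    rw [h1, hx σ]

end Rad

/-- (OUT1) `G` a smooth model over a strictly henselian discrete valuation ring with irreducible fibres of an abelian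
variety, `g` a section of the form `σ y - y`: translation by `g` fixes every class on the geometric special fibre coming
from `G`. -/
def Out1 : Prop :=
  ∀ (R K Ω : Type u) [CommRing R] [IsDomain R] [IsDiscreteValuationRing R] [HenselianLocalRing R]
    [IsSepClosed (IsLocalRing.ResidueField R)] [Field K] [Algebra R K] [IsFractionRing R K]
    [Field Ω] [Algebra K Ω] [IsSepClosure K Ω] (G : Over (Spec (CommRingCat.of R))) [GrpObj G]
    (_ : Smooth G.hom) (_ : IsSeparated G.hom) (_ : QuasiCompact G.hom) (_ : GeometricallyIrreducible G.hom)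
    [IsProper ((SGA7.genFib R K).obj G).hom] [GeometricallyIntegral ((SGA7.genFib R K).obj G).hom]
    (_ : IsIrreducible (SGA7.specialFibreSet R G))
    (L : Pic G.left) (g : 𝟙_ (Over (Spec (CommRingCat.of R))) ⟶ G) (σ : Ω ≃ₐ[K] Ω)
    (y : SGA7.Pts Ω ((SGA7.genFib R K).obj G)) (_ : Dict.secΩ R K Ω G g = SGA7.dev σ y)
    (F : Type u) [Field F] [IsAlgClosed F] (t : Spec (CommRingCat.of F) ⟶ Spec (CommRingCat.of R))
    (_ : t (IsLocalRing.closedPoint F) = IsLocalRing.closedPoint R),
    pull (H260.Cover.tr (bcPt t G g)).left (pull (pullback.fst G.hom t) L) = pull (pullback.fst G.hom t) L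

/-- (OUT2) Over a strictly henselian discretely valued field, level two implies that the group generated by the
`σ z - z` and the group of rational points together have as many torsion points as the whole abelian variety. -/
def Out2 : Prop :=
  ∀ (R K Ω : Type u) [CommRing R] [IsDomain R] [IsDiscreteValuationRing R] [HenselianLocalRing R]
    [IsSepClosed (IsLocalRing.ResidueField R)] [Field K] [Algebra R K] [IsFractionRing R K]
    [Field Ω] [Algebra K Ω] [IsSepClosure K Ω] (l : ℕ) (_ : l.Prime)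
    (_ : (l : IsLocalRing.ResidueField R) ≠ 0) (A : Over (Spec (CommRingCat.of K))) [GrpObj A] [IsCommMonObj A]
    [IsProper A.hom] [GeometricallyIntegral A.hom] (g : ℕ)
    (_ : topologicalKrullDim (Red.bc (Spec.map (CommRingCat.ofHom (algebraMap K Ω))) A).left = g)
    (_ : ∀ (ν : ℕ) (σ τ : Ω ≃ₐ[K] Ω) (x : SGA7.Pts Ω A), x ^ (l ^ ν) = 1 → SGA7.dev σ (SGA7.dev τ x) = 1),
    TL (↥(WΩ (Ω := Ω) A l) × ↥(Fix (Ω := Ω) A)) l (2 * g)

/-- (C3) A smooth connected commutative algebraic group with an ample class fixed by the translations by a dense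
divisible torsion group is affine. -/
def C3 : Prop :=
  ∀ (k : Type u) [Field k] [IsAlgClosed k] (Y : Over (Spec (CommRingCat.of k))) [GrpObj Y] [IsCommMonObj Y]
    (_ : Smooth Y.hom) (_ : QuasiCompact Y.hom) (_ : IsSeparated Y.hom) (_ : ConnectedSpace Y.left)
    (L : Y.left.Modules) (hL : CohB1.IsAmple L)
    (W : Subgroup (𝟙_ (Over (Spec (CommRingCat.of k))) ⟶ Y))
    (_ : Dense (Books.AlgPts.pt '' (W : Set (𝟙_ (Over (Spec (CommRingCat.of k))) ⟶ Y))))
    (l : ℕ) (_ : l.Prime) (_ : (l : k) ≠ 0)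
    (_ : ∀ w ∈ W, ∃ n : ℕ, w ^ (l ^ n) = 1) (_ : ∀ w ∈ W, ∃ v ∈ W, v ^ l = w)
    (_ : ∀ w ∈ W, pull (H260.Cover.tr w).left (mk L hL.1) = mk L hL.1), IsAffine Y.left

/-- (C4) The final count. -/
def C4 : Prop :=
  ∀ (k : Type u) [Field k] [IsAlgClosed k] (l : ℕ) (_ : l.Prime) (_ : (l : k) ≠ 0)
    (H : Over (Spec (CommRingCat.of k))) [GrpObj H] [IsCommMonObj H] [Smooth H.hom] [QuasiCompact H.hom]
    [ConnectedSpace H.left] (d : ℕ) (_ : topologicalKrullDim H.left = d)
    (Y : Over (Spec (CommRingCat.of k))) [GrpObj Y] [IsCommMonObj Y] [Smooth Y.hom] [QuasiCompact Y.hom]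
    [ConnectedSpace Y.left] [IsAffine Y.left] (i : Y ⟶ H) [IsMonHom i] [IsClosedImmersion i.left]
    (W : Subgroup (𝟙_ (Over (Spec (CommRingCat.of k))) ⟶ H))
    (_ : ∀ w ∈ W, ∃ y : 𝟙_ (Over (Spec (CommRingCat.of k))) ⟶ Y, y ≫ i = w)
    (_ : TL (↥W × (𝟙_ (Over (Spec (CommRingCat.of k))) ⟶ H)) l (2 * d))
    (j : Red.Ga (Spec (CommRingCat.of k)) ⟶ H), IsMonHom j → IsClosedImmersion j.left → False

end Groth.Agent.Sga7.H729.Inputs
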