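import Groth.Agent.Sga7.H729.TorsionSec
import Groth.Prelude.Def_SGA7IX
import Mathlib.FieldTheory.Galois.Infinite
import Mathlib.FieldTheory.IsSepClosed

/-!
# Points of base changes, Galois-fixed points, specialisation of torsion

* `bcPts`: `X`-points of a base change.
* `exists_of_fixed`: an `Ω`-point fixed by `Gal(Ω/K)` comes from a `K`-point.
-/

set_option autoImplicit false

universe u

open CategoryTheory CategoryTheory.Limits AlgebraicGeometry MonObj
open MonoidalCategory CartesianMonoidalCategory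
open Groth.Agent.Sga67.TorsionLift

namespace Groth.Agent.Sga7.H729.Dict

/-- Points of a base change, as a group isomorphism. -/
noncomputable def bcPts {S S' : Scheme.{u}} (f : S' ⟶ S) (N : Over S) [GrpObj N] (X : Over S') :
    (X ⟶ Red.bc f N) ≃* ((Over.map f).obj X ⟶ N) :=
  MulEquiv.mk' ((Over.mapPullbackAdj f).homEquiv X N).symm
    (fun a b => homEquiv_symm_mul (Over.mapPullbackAdj f) a b)

lemma bcPts_left {S S' : Scheme.{u}} (f : S' ⟶ S) (N : Over S) [GrpObj N] (X : Over S') (x : X ⟶ Red.bc f N) :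
    (bcPts f N X x).left = x.left ≫ pullback.fst N.hom f := by
  change (((Over.mapPullbackAdj f).homEquiv X N).symm x).left = _
  rw [Adjunction.homEquiv_counit]
  simp

lemma bcPts_symm_apply {S S' : Scheme.{u}} (f : S' ⟶ S) (N : Over S) [GrpObj N] (X : Over S')
    (y : (Over.map f).obj X ⟶ N) : (bcPts f N X).symm y = (Over.mapPullbackAdj f).homEquiv X N y := rfl

/-- Precomposition is a group homomorphism on points. -/
def compHom {C : Type*} [Category C] [CartesianMonoidalCategory C] {X Y : C} (f : X ⟶ Y) (G : C) [GrpObj G] :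
    (Y ⟶ G) →* (X ⟶ G) where
  toFun g := f ≫ g
  map_one' := MonObj.comp_one _
  map_mul' _ _ := MonObj.comp_mul _ _ _

section Fixed

variable {K Ω : Type u} [Field K] [Field Ω] [Algebra K Ω]

/-- An `Ω`-point fixed by the Galois group comes from a `K`-point. -/
theorem exists_of_fixed [IsGalois K Ω] (A : Over (Spec (CommRingCat.of K))) (x : SGA7.Pts Ω A)
    (hx : ∀ σ : Ω ≃ₐ[K] Ω, SGA7.galAct σ x = x) :
    ∃ y : 𝟙_ (Over (Spec (CommRingCat.of K))) ⟶ A, toUnit (SGA7.pt Ω) ≫ y = x := by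
  obtain ⟨O, _, _, j, hj, hp⟩ := exists_chart A (x.left (IsLocalRing.closedPoint Ω))
  obtain ⟨f, hf⟩ := exists_factor (T := Ω) A j x hp
  have h1 : ∀ (σ : Ω ≃ₐ[K] Ω) (o : O), σ (f o) = f o := by
    intro σ o
    have h2 : spMap ((σ : Ω →ₐ[K] Ω).comp f) ≫ j = spMap f ≫ j := by
      rw [← spMap_comp, Category.assoc, ← hf]
      exact hx σ
    exact congrArg (fun g => g o) (factor_injective A j h2)
  have h2 : ∀ o : O, ∃ a : K, algebraMap K Ω a = f o := fun o =>
    (InfiniteGalois.mem_range_algebraMap_iff_fixed _).2 (fun σ => h1 σ o)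
  choose g hg using h2
  have hinj := (algebraMap K Ω).injective
  let φ : O →ₐ[K] K :=
    { toFun := g
      map_one' := hinj (by rw [hg, map_one, map_one])
      map_mul' := fun a b => hinj (by rw [hg, map_mul, map_mul, hg, hg])
      map_zero' := hinj (by rw [hg, map_zero, map_zero])
      map_add' := fun a b => hinj (by rw [hg, map_add, map_add, hg, hg])
      commutes' := fun r => hinj (by rw [hg, AlgHom.commutes]; rfl) }
  have hφ : (Algebra.ofId K Ω).comp φ = f := by
    ext o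
    exact hg o
  have hw : (Spec.map (CommRingCat.ofHom (φ : O →+* K)) ≫ j.left) ≫ A.hom = 𝟙 _ := by
    rw [Category.assoc, Over.w j]
    dsimp
    rw [← Spec.map_comp, ← CommRingCat.ofHom_comp, φ.comp_algebraMap]
    exact Spec.map_id _
  refine ⟨Over.homMk (Spec.map (CommRingCat.ofHom (φ : O →+* K)) ≫ j.left) hw, ?_⟩
  ext1
  rw [Over.comp_left, Over.toUnit_left, hf, ← hφ]
  change _ ≫ _ ≫ j.left = _ ≫ j.left
  rw [← Category.assoc]
  congr 1
  change Spec.map _ ≫ Spec.map _ = Spec.map _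
  rw [← Spec.map_comp]
  rfl

end Fixed

section Neron

variable (R K Ω : Type u) [CommRing R] [Field K] [Algebra R K] [Field Ω] [Algebra K Ω]
  (N : Over (Spec (CommRingCat.of R))) [GrpObj N]

/-- Restriction of a section of `N` to the generic fibre. -/
noncomputable def secK : (𝟙_ (Over (Spec (CommRingCat.of R))) ⟶ N) →*
    (𝟙_ (Over (Spec (CommRingCat.of K))) ⟶ (SGA7.genFib R K).obj N) :=
  (bcPts (Spec.map (CommRingCat.ofHom (algebraMap R K))) N (𝟙_ _)).symm.toMonoidHom.comp
    (compHom (toUnit _) N)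

lemma secK_eq (g : 𝟙_ (Over (Spec (CommRingCat.of R))) ⟶ N) :
    secK R K N g = ((Over.mapPullbackAdj (Spec.map (CommRingCat.ofHom (algebraMap R K)))).homEquiv _ _
      (toUnit _)) ≫ (SGA7.genFib R K).map g := by
  change (bcPts _ N _).symm (toUnit _ ≫ g) = _
  rw [bcPts_symm_apply, Adjunction.homEquiv_naturality_right]

omit [Algebra R K] in
lemma isIso_homEquiv_toUnit (f : Spec (CommRingCat.of K) ⟶ Spec (CommRingCat.of R)) :
    IsIso ((Over.mapPullbackAdj f).homEquiv (𝟙_ _) (𝟙_ _) (toUnit _)) := by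
  have h : (Over.mapPullbackAdj f).homEquiv (𝟙_ _) (𝟙_ _) (toUnit _) = Functor.LaxMonoidal.ε (Over.pullback f) := by
    rw [← cancel_mono (Functor.Monoidal.εIso (Over.pullback f)).inv]
    exact toUnit_unique _ _
  rw [h]
  infer_instance

theorem secK_bijective (hN : SGA7.IsNeron R K N) : Function.Bijective (secK R K N) := by
  have h1 := hN.2.2.2 (𝟙_ _) (inferInstanceAs (Smooth (𝟙 (Spec (CommRingCat.of R)))))
  have h2 := isIso_homEquiv_toUnit R K (Spec.map (CommRingCat.ofHom (algebraMap R K)))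
  have h3 : (secK R K N : _ → _) = (fun g => ((Over.mapPullbackAdj (Spec.map
      (CommRingCat.ofHom (algebraMap R K)))).homEquiv (𝟙_ _) (𝟙_ _) (toUnit _)) ≫ g) ∘
      (fun g => (SGA7.genFib R K).map g) := by
    ext1 g
    exact secK_eq R K N g
  rw [h3]
  refine Function.Bijective.comp ?_ h1
  exact ((asIso ((Over.mapPullbackAdj (Spec.map
      (CommRingCat.ofHom (algebraMap R K)))).homEquiv (𝟙_ _) (𝟙_ _) (toUnit _))).homFromEquiv).symm.bijective

/-- From sections of `N` to `Ω`-points of the generic fibre. -/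
noncomputable def secΩ : (𝟙_ (Over (Spec (CommRingCat.of R))) ⟶ N) →* SGA7.Pts Ω ((SGA7.genFib R K).obj N) :=
  (compHom (toUnit (SGA7.pt Ω)) _).comp (secK R K N)

/-- `Spec Ω` over `Spec R` via `Spec K`. -/
noncomputable def ι₀ [Algebra R Ω] [IsScalarTower R K Ω] :
    sp R Ω ⟶ (Over.map (Spec.map (CommRingCat.ofHom (algebraMap R K)))).obj (SGA7.pt Ω) :=
  Over.homMk (𝟙 _) (by
    dsimp
    rw [Category.id_comp, ← Spec.map_comp, ← CommRingCat.ofHom_comp, ← IsScalarTower.algebraMap_eq])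

/-- its inverse. -/
noncomputable def ι₁ [Algebra R Ω] [IsScalarTower R K Ω] :
    (Over.map (Spec.map (CommRingCat.ofHom (algebraMap R K)))).obj (SGA7.pt Ω) ⟶ sp R Ω :=
  Over.homMk (𝟙 _) (by
    dsimp
    rw [Category.id_comp, ← Spec.map_comp, ← CommRingCat.ofHom_comp, ← IsScalarTower.algebraMap_eq])

/-- `Ω`-points of the generic fibre are `Ω`-points of `N`. -/
noncomputable def toSp [Algebra R Ω] [IsScalarTower R K Ω] :
    SGA7.Pts Ω ((SGA7.genFib R K).obj N) ≃* (sp R Ω ⟶ N) :=
  (bcPts (Spec.map (CommRingCat.ofHom (algebraMap R K))) N (SGA7.pt Ω)).trans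
    { toFun := fun x => ι₀ R K Ω ≫ x
      invFun := fun x => ι₁ R K Ω ≫ x
      left_inv := fun x => by ext1; simp [ι₀, ι₁]
      right_inv := fun x => by ext1; simp [ι₀, ι₁]
      map_mul' := fun x y => MonObj.comp_mul _ _ _ }

lemma toSp_left [Algebra R Ω] [IsScalarTower R K Ω] (x : SGA7.Pts Ω ((SGA7.genFib R K).obj N)) :
    (toSp R K Ω N x).left = x.left ≫ pullback.fst _ _ := by
  change (𝟙 _ ≫ (bcPts _ N _ x).left) = _
  rw [bcPts_left, Category.id_comp]

/-- `secΩ` is restriction along `Spec Ω → Spec R`. -/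
lemma toSp_secΩ [Algebra R Ω] [IsScalarTower R K Ω] (g : 𝟙_ (Over (Spec (CommRingCat.of R))) ⟶ N) :
    toSp R K Ω N (secΩ R K Ω N g) = toUnit _ ≫ g := by
  ext1
  rw [toSp_left]
  change ((toUnit (SGA7.pt Ω)).left ≫ (secK R K N g).left) ≫ pullback.fst _ _ = _
  have h1 : (secK R K N g).left ≫ pullback.fst _ _ = (toUnit _ ≫ g : (Over.map (Spec.map (CommRingCat.ofHom
      (algebraMap R K)))).obj (𝟙_ _) ⟶ N).left := by
    rw [← bcPts_left]
    congr 1
    exact MulEquiv.apply_symm_apply _ _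
  rw [Category.assoc, h1]
  have h2 : toUnit (sp R Ω) = Over.homMk (Spec.map (CommRingCat.ofHom (algebraMap R Ω))) := toUnit_unique _ _
  rw [h2, Over.comp_left, ← Category.assoc, Over.comp_left]
  congr 1
  change Spec.map (CommRingCat.ofHom (algebraMap K Ω)) ≫ (𝟙 _ ≫ Spec.map (CommRingCat.ofHom (algebraMap R K))) =
    Spec.map (CommRingCat.ofHom (algebraMap R Ω))
  rw [Category.id_comp, ← Spec.map_comp, ← CommRingCat.ofHom_comp, ← IsScalarTower.algebraMap_eq]

theorem secΩ_injective (hN : SGA7.IsNeron R K N) : Function.Injective (secΩ R K Ω N) := by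
  intro a b hab
  apply (secK_bijective R K N hN).1
  have h1 : Epi (toUnit (SGA7.pt Ω) : _ ⟶ 𝟙_ (Over (Spec (CommRingCat.of K)))).left := by
    have h2 : (toUnit (SGA7.pt Ω) : _ ⟶ 𝟙_ (Over (Spec (CommRingCat.of K)))).left =
      Spec.map (CommRingCat.ofHom (algebraMap K Ω)) := rfl
    rw [h2]
    have h3 : Flat (Spec.map (CommRingCat.ofHom (algebraMap K Ω))) := by
      rw [HasRingHomProperty.Spec_iff (P := @Flat)]
      exact RingHom.flat_algebraMap_iff.2 inferInstance
    have h4 : Surjective (Spec.map (CommRingCat.ofHom (algebraMap K Ω))) :=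
      ⟨fun x => ⟨IsLocalRing.closedPoint Ω, Subsingleton.elim (α := PrimeSpectrum K) _ _⟩⟩
    exact Flat.epi_of_flat_of_surjective _
  ext1
  rw [← cancel_epi (toUnit (SGA7.pt Ω) : _ ⟶ 𝟙_ (Over (Spec (CommRingCat.of K)))).left]
  exact congrArg (fun f => f.left) hab

/-- The image of `N(R)` in `N(Ω)` is the set of points fixed by the Galois group (`N` a Néron model). -/
theorem exists_secΩ_iff [IsGalois K Ω] (hN : SGA7.IsNeron R K N) (x : SGA7.Pts Ω ((SGA7.genFib R K).obj N)) :
    (∃ g, secΩ R K Ω N g = x) ↔ ∀ σ : Ω ≃ₐ[K] Ω, SGA7.galAct σ x = x := by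
  constructor
  · rintro ⟨g, rfl⟩ σ
    change SGA7.specAut σ ≫ toUnit _ ≫ _ = toUnit _ ≫ _
    rw [← Category.assoc]
    congr 1
    exact toUnit_unique _ _
  · intro hx
    obtain ⟨y, hy⟩ := exists_of_fixed _ x hx
    obtain ⟨g, rfl⟩ := (secK_bijective R K N hN).2 y
    exact ⟨g, hy⟩

end Neron

section Torsion

variable {R : Type u} [CommRing R] [IsLocalRing R] (N : Over (Spec (CommRingCat.of R))) [GrpObj N]
  (k : Type u) [CommRing k] [IsLocalRing k] [Algebra R k] [IsLocalHom (algebraMap R k)]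

/-- Base change of sections along a local homomorphism is bijective on `n`-torsion. -/
theorem sec_torsion_bijOn (hR : EtCoh.IsStrictlyHenselianLocalRing R) (n : ℕ) [Etale (𝟙 N ^ n).left] :
    Set.BijOn (compHom (toUnit (sp R k)) N) {g | g ^ n = 1} {y | y ^ n = 1} := by
  refine ⟨?_, ?_, ?_⟩
  · intro g hg
    change (compHom (toUnit (sp R k)) N g) ^ n = 1
    rw [← map_pow, show g ^ n = 1 from hg, map_one]
  · intro a ha b hb hab
    exact TorsionSec.sec_ext_of_pow_eq_one (T := k) a b ha hb hab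
  · intro y hy
    obtain ⟨a, ha, hay⟩ := TorsionSec.exists_sec_of_pow_eq_one hR y hy
    exact ⟨a, ha, hay⟩

omit [IsLocalRing R] in
/-- Torsion points of the fibre of a Néron model over a geometric point of the closed point and Galois-fixed
torsion points of the generic fibre: both are the torsion of `N(R)`. -/
theorem fixed_torsion (n : ℕ) (K Ω : Type u) [Field K] [Algebra R K] [Field Ω] [Algebra K Ω] [IsGalois K Ω] (hN : SGA7.IsNeron R K N) :
    Set.BijOn (secΩ R K Ω N) {g | g ^ n = 1}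
      {x | x ^ n = 1 ∧ ∀ σ : Ω ≃ₐ[K] Ω, SGA7.galAct σ x = x} := by
  have hinj := secΩ_injective R K Ω N hN
  refine ⟨?_, hinj.injOn, ?_⟩
  · intro g hg
    refine ⟨?_, (exists_secΩ_iff R K Ω N hN _).1 ⟨g, rfl⟩⟩
    rw [← map_pow, show g ^ n = 1 from hg, map_one]
  · rintro x ⟨hx, hx'⟩
    obtain ⟨g, rfl⟩ := (exists_secΩ_iff R K Ω N hN _).2 hx'
    refine ⟨g, ?_, rfl⟩
    apply hinj
    rw [map_pow, hx, map_one]

end Torsion

end Groth.Agent.Sga7.H729.Dict
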