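import Groth.Agent.Sga67.TorsionLift
import Groth.Agent.Sga7.H751.SecRoot
import Groth.Agent.Desc.LQF
import Mathlib.AlgebraicGeometry.Morphisms.FlatMono

/-!
# Torsion sections over strictly henselian local rings

* `exists_factor_section`: a morphism from a local scheme to an étale scheme over a strictly henselian local
  ring, centred at the closed point, factors through a section.
* `exists_sec_of_pow_eq_one`: `R → T` a map of local rings, `R` strictly henselian, `G` a group scheme over
  `R` whose `n`-th power map is étale: every `n`-torsion `T`-point of `G` comes from an `n`-torsion `R`-point.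
-/

set_option autoImplicit false

universe u

open CategoryTheory CategoryTheory.Limits AlgebraicGeometry MonObj
open MonoidalCategory CartesianMonoidalCategory

namespace Groth.Agent.Sga7.H729.TorsionSec

/-- A section of an étale morphism is an open immersion. -/
theorem isOpenImmersion_of_section {S E : Scheme.{u}} (p : E ⟶ S) [Etale p] (a : S ⟶ E)
    (ha : a ≫ p = 𝟙 S) : IsOpenImmersion a := by
  have h1 : Etale (a ≫ p) := by rw [ha]; infer_instance
  have h2 : Etale a := MorphismProperty.of_postcomp (W := @Etale) (W' := @Etale) a p ‹_› h1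
  have h3 : Mono a := by
    have : Mono (a ≫ p) := by rw [ha]; infer_instance
    exact mono_of_mono a p
  exact IsOpenImmersion.of_flat_of_mono a

/-- A point of the closed fibre of an étale scheme over a strictly henselian local ring lies on a section. -/
theorem exists_section_through {R : Type u} [CommRing R] [IsLocalRing R]
    (hR : EtCoh.IsStrictlyHenselianLocalRing R) {E : Scheme.{u}} (p : E ⟶ Spec (CommRingCat.of R)) [Etale p]
    (c : E) (hc : p c = IsLocalRing.closedPoint R) :
    ∃ a : Spec (CommRingCat.of R) ⟶ E, a ≫ p = 𝟙 _ ∧ a (IsLocalRing.closedPoint R) = c := by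
  have hlq : LocallyQuasiFinite p := Groth.Agent.Desc.LQF.of_etale p
  have hd : _root_.IsDiscrete (p ⁻¹' {IsLocalRing.closedPoint R}) := p.isDiscrete_preimage_singleton _
  obtain ⟨O, hO, hOc⟩ := (isDiscrete_iff_forall_mem_exists_isOpen.1 hd) c hc
  have hcO : c ∈ O := by
    have : c ∈ O ∩ p ⁻¹' {IsLocalRing.closedPoint R} := by rw [hOc]; rfl
    exact this.1
  obtain ⟨a, ha, haO⟩ := Dix.NeronEllPts.exists_section hR p c hc O hO hcO
  refine ⟨a, ha, ?_⟩
  have h1 : a (IsLocalRing.closedPoint R) ∈ O ∩ p ⁻¹' {IsLocalRing.closedPoint R} := by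
    refine ⟨haO, ?_⟩
    change p (a (IsLocalRing.closedPoint R)) = IsLocalRing.closedPoint R
    rw [← Scheme.Hom.comp_apply, ha]
    rfl
  rw [hOc] at h1
  exact h1

/-- A morphism from a local scheme to an étale scheme over a strictly henselian local ring, centred at the
closed point, factors through a section. -/
theorem exists_factor_section {R : Type u} [CommRing R] [IsLocalRing R]
    (hR : EtCoh.IsStrictlyHenselianLocalRing R) {E : Scheme.{u}} (p : E ⟶ Spec (CommRingCat.of R)) [Etale p]
    {T : Type u} [CommRing T] [IsLocalRing T] (z : Spec (CommRingCat.of T) ⟶ E)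
    (hz : (z ≫ p) (IsLocalRing.closedPoint T) = IsLocalRing.closedPoint R) :
    ∃ a : Spec (CommRingCat.of R) ⟶ E, a ≫ p = 𝟙 _ ∧ (z ≫ p) ≫ a = z := by
  obtain ⟨a, ha, hac⟩ := exists_section_through hR p (z (IsLocalRing.closedPoint T)) (by
    rw [← Scheme.Hom.comp_apply]; exact hz)
  refine ⟨a, ha, ?_⟩
  have hao : IsOpenImmersion a := isOpenImmersion_of_section p a ha
  have hr : Set.range z ⊆ Set.range a := by
    rintro _ ⟨t, rfl⟩
    have h1 : t ⤳ IsLocalRing.closedPoint T := IsLocalRing.specializes_closedPoint t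
    have h2 : z t ⤳ z (IsLocalRing.closedPoint T) := h1.map z.continuous
    exact h2.mem_open a.isOpenEmbedding.isOpen_range ⟨_, hac⟩
  let b := IsOpenImmersion.lift a z hr
  have hb : b ≫ a = z := IsOpenImmersion.lift_fac _ _ _
  have hb2 : z ≫ p = b := by rw [← hb, Category.assoc, ha, Category.comp_id]
  rw [hb2, hb]


section Grp

variable {R : Type u} [CommRing R] [IsLocalRing R] (G : Over (Spec (CommRingCat.of R))) [GrpObj G] (n : ℕ)

/-- The structure morphism of the kernel of the `n`-th power map. -/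
noncomputable abbrev kerHom : pullback (𝟙 G ^ n).left (η[G] : 𝟙_ (Over (Spec (CommRingCat.of R))) ⟶ G).left ⟶
    Spec (CommRingCat.of R) :=
  pullback.snd _ _

variable {G n}

omit [IsLocalRing R] in
lemma comp_pow_id {X : Over (Spec (CommRingCat.of R))} (z : X ⟶ G) : z ≫ (𝟙 G ^ n) = z ^ n := by
  rw [MonObj.comp_pow, Category.comp_id]

omit [IsLocalRing R] in
/-- an `n`-torsion point as a point of the kernel. -/
lemma exists_ker_pt {X : Over (Spec (CommRingCat.of R))} (z : X ⟶ G) (hz : z ^ n = 1) :
    ∃ z' : X.left ⟶ pullback (𝟙 G ^ n).left (η[G] : 𝟙_ (Over (Spec (CommRingCat.of R))) ⟶ G).left,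
      z' ≫ pullback.fst _ _ = z.left ∧ z' ≫ kerHom G n = X.hom := by
  have h1 : z.left ≫ (𝟙 G ^ n).left = X.hom ≫ (η[G] : 𝟙_ (Over (Spec (CommRingCat.of R))) ⟶ G).left := by
    rw [← Over.comp_left, comp_pow_id, hz]
    rfl
  exact ⟨pullback.lift _ _ h1, pullback.lift_fst _ _ _, pullback.lift_snd _ _ _⟩

/-- `R → T` a map of local rings, `R` strictly henselian, `G` a group scheme over `R` whose `n`-th power map
is étale: every `n`-torsion `T`-point of `G` comes from an `n`-torsion `R`-point. -/
theorem exists_sec_of_pow_eq_one (hR : EtCoh.IsStrictlyHenselianLocalRing R) [Etale (𝟙 G ^ n).left]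
    {T : Type u} [CommRing T] [IsLocalRing T] [Algebra R T] [IsLocalHom (algebraMap R T)]
    (z : Groth.Agent.Sga67.TorsionLift.sp R T ⟶ G) (hz : z ^ n = 1) :
    ∃ a : 𝟙_ (Over (Spec (CommRingCat.of R))) ⟶ G, a ^ n = 1 ∧ toUnit _ ≫ a = z := by
  obtain ⟨z', hz1, hz2⟩ := exists_ker_pt z hz
  obtain ⟨a', ha, hz'⟩ := exists_factor_section hR (kerHom G n) z' (by
    rw [hz2]
    exact IsLocalRing.comap_closedPoint _)
  have haw : (a' ≫ pullback.fst _ _) ≫ G.hom = (𝟙_ (Over (Spec (CommRingCat.of R)))).hom := by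
    have h1 : (𝟙 G ^ n).left ≫ G.hom = G.hom := Over.w _
    have h2 : (η[G] : 𝟙_ (Over (Spec (CommRingCat.of R))) ⟶ G).left ≫ G.hom = 𝟙 _ := Over.w _
    calc (a' ≫ pullback.fst _ _) ≫ G.hom = a' ≫ pullback.fst _ _ ≫ (𝟙 G ^ n).left ≫ G.hom := by
          rw [Category.assoc, h1]
      _ = a' ≫ pullback.snd _ _ ≫ (η[G] : 𝟙_ (Over (Spec (CommRingCat.of R))) ⟶ G).left ≫ G.hom := by
          rw [pullback.condition_assoc]
      _ = 𝟙 _ := by
          rw [h2, Category.comp_id]
          exact ha
  let a : 𝟙_ (Over (Spec (CommRingCat.of R))) ⟶ G := Over.homMk (a' ≫ pullback.fst _ _) haw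
  refine ⟨a, ?_, ?_⟩
  · rw [← comp_pow_id]
    ext1
    change (a' ≫ pullback.fst _ _) ≫ (𝟙 G ^ n).left = (𝟙 _) ≫ (η[G] : 𝟙_ (Over (Spec (CommRingCat.of R))) ⟶ G).left
    rw [Category.assoc, pullback.condition, ← Category.assoc]
    congr 1
  · ext1
    change (Groth.Agent.Sga67.TorsionLift.sp R T).hom ≫ a' ≫ pullback.fst _ _ = z.left
    rw [← hz2, ← hz1, ← Category.assoc, hz']

/-- Over a local ring (any), two `n`-torsion sections which agree after a local base change `R → T` are equal. -/
theorem sec_ext_of_pow_eq_one [Etale (𝟙 G ^ n).left]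
    {T : Type u} [CommRing T] [IsLocalRing T] [Algebra R T] [IsLocalHom (algebraMap R T)]
    (a b : 𝟙_ (Over (Spec (CommRingCat.of R))) ⟶ G) (ha : a ^ n = 1) (hb : b ^ n = 1)
    (h : (toUnit (Groth.Agent.Sga67.TorsionLift.sp R T)) ≫ a = toUnit _ ≫ b) : a = b := by
  obtain ⟨a', ha1, ha2⟩ := exists_ker_pt a ha
  obtain ⟨b', hb1, hb2⟩ := exists_ker_pt b hb
  have hbo : IsOpenImmersion b' := isOpenImmersion_of_section (kerHom G n) b' hb2
  have hT : (Spec.map (CommRingCat.ofHom (algebraMap R T))) (IsLocalRing.closedPoint T) =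
      IsLocalRing.closedPoint R := IsLocalRing.comap_closedPoint _
  have hab : (Groth.Agent.Sga67.TorsionLift.sp R T).hom ≫ a' = (Groth.Agent.Sga67.TorsionLift.sp R T).hom ≫ b' := by
    apply pullback.hom_ext
    · rw [Category.assoc, Category.assoc, ha1, hb1]
      exact congrArg (fun f => f.left) h
    · rw [Category.assoc, Category.assoc, ha2, hb2]
  have hc : a' (IsLocalRing.closedPoint R) = b' (IsLocalRing.closedPoint R) := by
    have h1 := congrArg (fun f => f (IsLocalRing.closedPoint T)) hab
    simp only [Scheme.Hom.comp_apply] at h1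
    have h2 : (Groth.Agent.Sga67.TorsionLift.sp R T).hom (IsLocalRing.closedPoint T) = IsLocalRing.closedPoint R := hT
    rw [h2] at h1
    exact h1
  have hr : Set.range a' ⊆ Set.range b' := by
    rintro _ ⟨t, rfl⟩
    have h1 : (show Spec (CommRingCat.of R) from t) ⤳ IsLocalRing.closedPoint R :=
      IsLocalRing.specializes_closedPoint t
    have h2 : a' t ⤳ a' (IsLocalRing.closedPoint R) := h1.map a'.continuous
    exact h2.mem_open b'.isOpenEmbedding.isOpen_range ⟨_, hc.symm⟩
  let c := IsOpenImmersion.lift b' a' hr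
  have hc1 : c ≫ b' = a' := IsOpenImmersion.lift_fac _ _ _
  have hc2 : c = 𝟙 _ := by
    have : c ≫ b' ≫ kerHom G n = 𝟙 _ := by
      rw [← Category.assoc, hc1]
      exact ha2
    rw [hb2] at this
    simpa using this
  have hab' : a' = b' := by rw [← hc1, hc2, Category.id_comp]
  ext1
  rw [← ha1, ← hb1, hab']

end Grp

end Groth.Agent.Sga7.H729.TorsionSec
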