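import Groth.Agent.Sga7.H729.Inputs
import Groth.Agent.Sga7.H761.BaseChg
import Groth.Agent.Etcore.AbTors

/-!
# The group generated by the points `σ z - z`
-/

set_option autoImplicit false

universe u

open CategoryTheory MonoidalCategory CartesianMonoidalCategory MonObj GrpObj AlgebraicGeometry Limits
open Groth.Agent.Sga7.H620.Growth Groth.Agent.Sga7.H729.Inputs

namespace Groth.Agent.Sga7.H729.Radical

section Grp

/-- Divisibility of the torsion from the count. -/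
theorem exists_root {P : Type*} [CommGroup P] (l a : ℕ) (hl : 1 ≤ l)
    (hc : ∀ n : ℕ, Nat.card {x : P // x ^ (l ^ n) = 1} = (l ^ n) ^ a) (n : ℕ) (x : P) (hx : x ^ (l ^ n) = 1) :
    ∃ y : P, y ^ l = x := by
  let T : ℕ → Subgroup P := fun n => (powMonoidHom (l ^ n) : P →* P).ker
  have hT : ∀ n, Nat.card (T n) = (l ^ n) ^ a := fun n => by
    rw [← hc n]
    rfl
  have hpos : ∀ n, 0 < (l ^ n) ^ a := fun n => pow_pos (pow_pos hl _) _
  have hfin : ∀ n, Finite (T n) := fun n => Nat.finite_of_card_ne_zero (by rw [hT]; exact (hpos n).ne')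
  let f : T (n + 1) →* P := (powMonoidHom l : P →* P).comp (T (n + 1)).subtype
  have hr : f.range ≤ T n := by
    rintro _ ⟨y, rfl⟩
    have h1 : (y : P) ^ (l ^ (n + 1)) = 1 := y.2
    change ((y : P) ^ l) ^ (l ^ n) = 1
    rw [← pow_mul, ← pow_succ', h1]
  have hk : Nat.card f.ker ≤ l ^ a := by
    have h1 : Nat.card (T 1) = l ^ a := by rw [hT, pow_one]
    rw [← h1]
    have := hfin 1
    refine Nat.card_le_card_of_injective (fun y : f.ker => (⟨(y : T (n + 1)), by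
      have h2 : ((y : T (n + 1)) : P) ^ l = 1 := y.2
      change ((y : T (n + 1)) : P) ^ (l ^ 1) = 1
      rw [pow_one, h2]⟩ : T 1)) ?_
    intro y y' h
    exact Subtype.ext (Subtype.ext (congrArg (fun z : T 1 => (z : P)) h))
  have h1 : Nat.card f.ker * Nat.card f.range = (l ^ (n + 1)) ^ a := by
    rw [← Subgroup.index_ker, Subgroup.card_mul_index, hT]
  have h2 : (l ^ n) ^ a ≤ Nat.card f.range := by
    have h3 : l ^ a * (l ^ n) ^ a ≤ l ^ a * Nat.card f.range := by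
      calc l ^ a * (l ^ n) ^ a = (l ^ (n + 1)) ^ a := by rw [← mul_pow, pow_succ']
        _ = Nat.card f.ker * Nat.card f.range := h1.symm
        _ ≤ l ^ a * Nat.card f.range := Nat.mul_le_mul_right _ hk
    exact Nat.le_of_mul_le_mul_left h3 (pow_pos hl _)
  have h3 : f.range = T n := by
    have := hfin n
    apply Subgroup.eq_of_le_of_card_ge hr
    rw [hT]
    exact h2
  have h4 : x ∈ f.range := by
    rw [h3]
    exact hx
  obtain ⟨y, hy⟩ := h4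
  exact ⟨(y : P), hy⟩

end Grp

variable {K Ω : Type u} [Field K] [Field Ω] [Algebra K Ω] (A : Over (Spec (CommRingCat.of K))) [GrpObj A]

/-- The number of `n`-torsion points over a separably closed field. -/
theorem card_pts [IsSepClosed Ω] [IsProper A.hom] [GeometricallyIntegral A.hom] (g : ℕ)
    (hg : topologicalKrullDim (Red.bc (Spec.map (CommRingCat.ofHom (algebraMap K Ω))) A).left = g) (n : ℕ)
    (hn : (n : Ω) ≠ 0) : Nat.card {x : SGA7.Pts Ω A // x ^ n = 1} = n ^ (2 * g) := by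
  have i1 : IsProper (Red.bc (Spec.map (CommRingCat.ofHom (algebraMap K Ω))) A).hom :=
    inferInstanceAs (IsProper (pullback.snd A.hom (Spec.map (CommRingCat.ofHom (algebraMap K Ω)))))
  have i2 : GeometricallyIntegral (Red.bc (Spec.map (CommRingCat.ofHom (algebraMap K Ω))) A).hom :=
    inferInstanceAs (GeometricallyIntegral (pullback.snd A.hom (Spec.map (CommRingCat.ofHom (algebraMap K Ω)))))
  exact (H761.BaseChg.card_torsion_bc Ω A n).symm.trans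
    (Etcore.AbTors.card_torsion (Red.bc (Spec.map (CommRingCat.ofHom (algebraMap K Ω))) A) g hg n hn)

section Dev

theorem galAct_mul (σ : Ω ≃ₐ[K] Ω) (x y : SGA7.Pts Ω A) :
    SGA7.galAct σ (x * y) = SGA7.galAct σ x * SGA7.galAct σ y := by
  simp only [SGA7.galAct, MonObj.comp_mul]

theorem galAct_pow (σ : Ω ≃ₐ[K] Ω) (x : SGA7.Pts Ω A) (n : ℕ) :
    SGA7.galAct σ (x ^ n) = SGA7.galAct σ x ^ n := by
  simp only [SGA7.galAct, MonObj.comp_pow]

theorem dev_pow [IsCommMonObj A] (σ : Ω ≃ₐ[K] Ω) (x : SGA7.Pts Ω A) (n : ℕ) :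
    SGA7.dev σ (x ^ n) = SGA7.dev σ x ^ n := by
  rw [SGA7.dev, SGA7.dev, galAct_pow, mul_pow, inv_pow]

theorem galAct_one (σ : Ω ≃ₐ[K] Ω) : SGA7.galAct σ (1 : SGA7.Pts Ω A) = 1 := by
  simp only [SGA7.galAct, MonObj.comp_one]

theorem dev_one (σ : Ω ≃ₐ[K] Ω) : SGA7.dev σ (1 : SGA7.Pts Ω A) = 1 := by
  rw [SGA7.dev, galAct_one, inv_one, _root_.mul_one]

end Dev

/-- Under level two the points `σ z - z` are fixed by the Galois group. -/
theorem WΩ_le_Fix (l : ℕ)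
    (h : ∀ (ν : ℕ) (σ τ : Ω ≃ₐ[K] Ω) (x : SGA7.Pts Ω A), x ^ (l ^ ν) = 1 → SGA7.dev σ (SGA7.dev τ x) = 1) :
    WΩ (Ω := Ω) A l ≤ Fix (Ω := Ω) A := by
  refine (Subgroup.closure_le _).2 ?_
  rintro _ ⟨σ, z, n, hz, rfl⟩ τ
  exact mul_inv_eq_one.1 (h n τ σ z hz)

variable [IsCommMonObj A]

theorem WΩ_torsion (l : ℕ) (w : SGA7.Pts Ω A) (hw : w ∈ WΩ (Ω := Ω) A l) : ∃ n : ℕ, w ^ (l ^ n) = 1 := by
  refine Subgroup.closure_induction (p := fun w _ => ∃ n : ℕ, w ^ (l ^ n) = 1) ?_ ?_ ?_ ?_ hw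
  · rintro _ ⟨σ, z, n, hz, rfl⟩
    exact ⟨n, by rw [← dev_pow, hz, dev_one]⟩
  · exact ⟨0, one_pow _⟩
  · rintro x y _ _ ⟨n, hn⟩ ⟨m, hm⟩
    refine ⟨n + m, ?_⟩
    have h1 : x ^ (l ^ (n + m)) = 1 := by rw [pow_add, pow_mul, hn, one_pow]
    have h2 : y ^ (l ^ (n + m)) = 1 := by rw [pow_add, _root_.mul_comm (l ^ n), pow_mul, hm, one_pow]
    rw [mul_pow, h1, h2, _root_.mul_one]
  · rintro x _ ⟨n, hn⟩
    exact ⟨n, by rw [inv_pow, hn, inv_one]⟩

theorem WΩ_divisible (l : ℕ)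
    (hr : ∀ (n : ℕ) (z : SGA7.Pts Ω A), z ^ (l ^ n) = 1 → ∃ z' : SGA7.Pts Ω A, z' ^ l = z)
    (w : SGA7.Pts Ω A) (hw : w ∈ WΩ (Ω := Ω) A l) : ∃ v ∈ WΩ (Ω := Ω) A l, v ^ l = w := by
  refine Subgroup.closure_induction (p := fun w _ => ∃ v ∈ WΩ (Ω := Ω) A l, v ^ l = w) ?_ ?_ ?_ ?_ hw
  · rintro _ ⟨σ, z, n, hz, rfl⟩
    obtain ⟨z', rfl⟩ := hr n z hz
    refine ⟨SGA7.dev σ z', Subgroup.subset_closure ⟨σ, z', n + 1, ?_, rfl⟩, (dev_pow A σ z' l).symm⟩
    rw [pow_succ', pow_mul]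
    exact hz
  · exact ⟨1, Subgroup.one_mem _, one_pow _⟩
  · rintro x y _ _ ⟨v, hv, rfl⟩ ⟨v', hv', rfl⟩
    exact ⟨v * v', Subgroup.mul_mem _ hv hv', mul_pow _ _ _⟩
  · rintro x _ ⟨v, hv, rfl⟩
    exact ⟨v⁻¹, Subgroup.inv_mem _ hv, inv_pow _ _⟩

end Groth.Agent.Sga7.H729.Radical
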