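import Groth.Agent.Sga7.H729.Cond
import Groth.Agent.Sga7.H729.Radical
import Groth.Agent.Sga7.H729.CoreAux
import Groth.Agent.Sga7.H260.Amp
import Groth.Agent.Sga7.H333.OpenSub
import Groth.Agent.CalgB.AmpleBase
import Groth.Agent.S1841

/-!
# CORE from its four inputs
-/

set_option autoImplicit false

universe u

open CategoryTheory MonoidalCategory CartesianMonoidalCategory MonObj GrpObj AlgebraicGeometry Limits TopologicalSpace
open Groth.Agent.Sga7.H620.Growth Groth.Agent.Sga7.H620.Neutral Groth.Agent.Sga7.H620.Special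
  Groth.Agent.Sga3.H778.NeutralOpen Groth.Agent.Grpsch.PicGrp Groth.Agent.Sga7.H729.Inputs

namespace Groth.Agent.Sga7.H729.Core

section Nat

variable (R K Ω : Type u) [CommRing R] [Field K] [Algebra R K] [Field Ω] [Algebra K Ω]
  {G N : Over (Spec (CommRingCat.of R))} [GrpObj G] [GrpObj N]

/-- `secΩ` is natural. -/
theorem secΩ_comp (f : G ⟶ N) (g : 𝟙_ (Over (Spec (CommRingCat.of R))) ⟶ G) :
    Dict.secΩ R K Ω N (g ≫ f) = Dict.secΩ R K Ω G g ≫ (SGA7.genFib R K).map f := by
  change toUnit _ ≫ Dict.secK R K N (g ≫ f) = (toUnit _ ≫ Dict.secK R K G g) ≫ _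
  rw [Dict.secK_eq, Dict.secK_eq, Functor.map_comp, Category.assoc, Category.assoc]

end Nat

/-- The special fibre of a scheme with geometrically irreducible fibres is irreducible. -/
theorem isIrreducible_specialFibreSet {R : Type u} [CommRing R] [IsLocalRing R] (G : Over (Spec (CommRingCat.of R)))
    (h : GeometricallyIrreducible G.hom) : IsIrreducible (SGA7.specialFibreSet R G) := by
  have h1 : IrreducibleSpace ↥(pullback G.hom (H260.Cover.vcl R)) :=
    h.geometrically_irreducibleSpace _ _ _ (IsPullback.of_hasPullback _ _)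
  rw [← H260.Cover.range_fst_vcl, ← Set.image_univ]
  exact (IrreducibleSpace.isIrreducible_univ _).image _ (pullback.fst G.hom (H260.Cover.vcl R)).continuous.continuousOn

/-- The geometric point at `s` has image `s`. -/
theorem geomPt_apply {S : Scheme.{u}} (s : S) (y : Spec (CommRingCat.of (AlgebraicClosure (S.residueField s)))) :
    Red.geomPt s y = s := by
  rw [Scheme.Hom.comp_apply]
  exact S.fromSpecResidueField_apply s _

section Main

variable (R K Ω : Type u) [CommRing R] [IsDomain R] [IsDiscreteValuationRing R] [HenselianLocalRing R]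
    [IsSepClosed (IsLocalRing.ResidueField R)] [Field K] [Algebra R K] [IsFractionRing R K]
    [Field Ω] [Algebra K Ω] [IsSepClosure K Ω]

/-- An ample class on a model. -/
theorem exists_ample (G : Over (Spec (CommRingCat.of R))) [GrpObj G] [Smooth G.hom] [IsSeparated G.hom]
    [QuasiCompact G.hom] [IsProper ((SGA7.genFib R K).obj G).hom]
    [GeometricallyIntegral ((SGA7.genFib R K).obj G).hom]
    (hirr : IsIrreducible (SGA7.specialFibreSet R G)) : ∃ L : G.left.Modules, CohB1.IsAmple L := by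
  obtain ⟨L₀, hL₀⟩ := Groth.Agent.S1841.result K ((SGA7.genFib R K).obj G)
  obtain ⟨L, hL, ⟨e⟩⟩ := H260.Ext.exists_extension R K G L₀ hL₀.1
  exact ⟨L, H260.Amp.isAmple R K G hirr L hL (Groth.Agent.Ega2.Weight.isAmple_of_iso e.symm hL₀)⟩

/-- **CORE** from its inputs. -/
theorem core (hO1 : Out1.{u}) (hO2 : Out2.{u}) (hC3 : C3.{u}) (hC4 : C4.{u}) : Cond.CoreProp.{u} := by
  intro R K Ω _ _ _ _ _ _ _ _ _ _ _ l hl hlp N _ hN _ _ hlev
  have : IsSepClosed Ω := IsSepClosure.sep_closed (k := K) (K := Ω)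
  have : Algebra.IsSeparable K Ω := IsSepClosure.separable
  have : IsGalois K Ω := inferInstance
  have cN : IsCommMonObj N := H751.SecRoot.isCommMonObj_of_isNeron R K N hN
  have hsm : Smooth N.hom := hN.1
  have hsep : IsSeparated N.hom := hN.2.1
  have hqc : QuasiCompact N.hom := hN.2.2.1
  have h0 := isOpen_neutral N
  obtain ⟨g0, m0⟩ := exists_grpObj N h0
  have c0 : IsCommMonObj (opn N (neutral N h0)) := H620.TorsCount.isCommMonObj_of_mono (opnι N (neutral N h0))
  have hsm0 := smooth_neutral' N h0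
  have hqc0 := quasiCompact_neutral N h0
  have hsep0 : IsSeparated (opn N (neutral N h0)).hom := by
    rw [← Over.w (opnι N (neutral N h0))]
    infer_instance
  have hgi := geometricallyIrreducible_neutral N h0
  have hirr := isIrreducible_specialFibreSet _ hgi
  obtain ⟨n, hn⟩ := H620.DimSmooth.exists_dim (opn N (neutral N h0))
  set fK := Spec.map (CommRingCat.ofHom (algebraMap R K)) with hfK
  set fΩ := Spec.map (CommRingCat.ofHom (algebraMap K Ω)) with hfΩ
  -- the generic fibre of the identity component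
  have i1 : GeometricallyIntegral (Red.bc fK N).hom := inferInstanceAs (GeometricallyIntegral ((SGA7.genFib R K).obj N).hom)
  have i1' : IsProper (Red.bc fK N).hom := inferInstanceAs (IsProper ((SGA7.genFib R K).obj N).hom)
  have i2 : IsIntegral (Red.bc fK N).left := GeometricallyIntegral.isIntegral_of_subsingleton (Red.bc fK N).hom
  have i3 : ConnectedSpace (Red.bc fK N).left := inferInstance
  have i4 : IsIso ((SGA7.genFib R K).map (opnι N (neutral N h0))) := isIso_bc_neutral N h0 fK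
  have i5 : IsIso ((Over.pullback fK).map (opnι N (neutral N h0))).left :=
    inferInstanceAs (IsIso ((Over.forget _).map ((Over.pullback fK).map (opnι N (neutral N h0)))))
  have i6 : ((Over.pullback fK).map (opnι N (neutral N h0))).left ≫ (Red.bc fK N).hom =
      (Red.bc fK (opn N (neutral N h0))).hom := Over.w _
  have hK : IsProper ((SGA7.genFib R K).obj (opn N (neutral N h0))).hom := by
    have : IsProper (Red.bc fK (opn N (neutral N h0))).hom := by
      rw [← i6]
      infer_instance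
    exact this
  have hKi : GeometricallyIntegral ((SGA7.genFib R K).obj (opn N (neutral N h0))).hom := by
    have : GeometricallyIntegral (Red.bc fK (opn N (neutral N h0))).hom := by
      rw [← i6]
      exact (MorphismProperty.cancel_left_of_respectsIso (P := @GeometricallyIntegral) _ _).mpr i1
    exact this
  -- the geometric special fibre
  set s := IsLocalRing.closedPoint R with hs
  set t : Spec (CommRingCat.of (AlgebraicClosure ((Spec (CommRingCat.of R)).residueField s))) ⟶
    Spec (CommRingCat.of R) := Red.geomPt (S := Spec (CommRingCat.of R)) s with ht0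
  have ht : t (IsLocalRing.closedPoint _) = s := geomPt_apply _ _
  have hlk : (l : AlgebraicClosure ((Spec (CommRingCat.of R)).residueField s)) ≠ 0 := by
    have h1 := H620.NOS.residueField_natCast_ne_zero (R := R) hlp 1 s
    rw [pow_one] at h1
    rw [← map_natCast (algebraMap ((Spec (CommRingCat.of R)).residueField s) _)]
    exact (map_ne_zero_iff _ (algebraMap ((Spec (CommRingCat.of R)).residueField s) _).injective).mpr h1
  have hl1 : 1 ≤ l := hl.one_lt.le
  refine H333.OpenSub.fibreUnipotentRankZero (opnι N (neutral N h0)) s ?_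
  -- the dimension
  have hd : topologicalKrullDim (Red.bc fΩ ((SGA7.genFib R K).obj N)).left = n := by
    let e : Red.bc (fΩ ≫ fK) N ≅ Red.bc fΩ (Red.bc fK N) := (Over.pullbackComp fΩ fK).app N
    have hcA : ConnectedSpace ↥(Red.bc fΩ (Red.bc fK N)).left := by
      have h1 : GeometricallyIrreducible (Red.bc fK N).hom := inferInstance
      have h2 : IrreducibleSpace ↥(pullback (Red.bc fK N).hom fΩ) :=
        h1.geometrically_irreducibleSpace fΩ _ _ (IsPullback.of_hasPullback _ _)
      exact inferInstanceAs (ConnectedSpace ↥(pullback (Red.bc fK N).hom fΩ))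
    have hc : ConnectedSpace ↥(Red.bc (fΩ ≫ fK) N).left := H620.NOS.connectedSpace_of_iso e.symm
    have hiso := isIso_bc_neutral N h0 (fΩ ≫ fK)
    change topologicalKrullDim (Red.bc fΩ (Red.bc fK N)).left = n
    rw [← H620.NOS.dim_eq_of_iso e,
      ← H620.NOS.dim_eq_of_iso (asIso ((Over.pullback (fΩ ≫ fK)).map (opnι N (neutral N h0)))),
      hn Ω (fΩ ≫ fK)]
  have cA : IsCommMonObj ((SGA7.genFib R K).obj N) := inferInstanceAs (IsCommMonObj (Red.bc fK N))
  have hlΩ : ∀ m : ℕ, ((l ^ m : ℕ) : Ω) ≠ 0 := by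
    intro m
    rw [Nat.cast_pow]
    refine pow_ne_zero _ ?_
    have h1 : (l : R) ≠ 0 := by
      intro h1
      apply hlp
      rw [← map_natCast (IsLocalRing.residue R), h1, map_zero]
    have h2 : (l : K) ≠ 0 := by
      rw [← map_natCast (algebraMap R K)]
      exact (map_ne_zero_iff _ (IsFractionRing.injective R K)).mpr h1
    rw [← map_natCast (algebraMap K Ω)]
    exact (map_ne_zero_iff _ (algebraMap K Ω).injective).mpr h2
  -- the radical
  set W₀ : Subgroup (SGA7.Pts Ω ((SGA7.genFib R K).obj N)) := WΩ ((SGA7.genFib R K).obj N) l with hW₀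
  have hfix : W₀ ≤ Fix ((SGA7.genFib R K).obj N) := Radical.WΩ_le_Fix _ l hlev
  have hdiv₀ : ∀ w ∈ W₀, ∃ v ∈ W₀, v ^ l = w :=
    Radical.WΩ_divisible _ l (Radical.exists_root l (2 * n) hl1 fun m =>
      Radical.card_pts _ n hd (l ^ m) (hlΩ m))
  have htor₀ : ∀ w ∈ W₀, ∃ m : ℕ, w ^ (l ^ m) = 1 := Radical.WΩ_torsion _ l
  have hTL₀ : TL (↥W₀ × ↥(Fix (Ω := Ω) ((SGA7.genFib R K).obj N))) l (2 * n) :=
    hO2 R K Ω l hl hlp _ n hd hlev
  -- sections
  set φ : (𝟙_ (Over (Spec (CommRingCat.of R))) ⟶ N) →* SGA7.Pts Ω ((SGA7.genFib R K).obj N) :=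
    Dict.secΩ R K Ω N with hφ
  have hφi : Function.Injective φ := Dict.secΩ_injective R K Ω N hN
  have hφF : ∀ x, x ∈ Fix (Ω := Ω) ((SGA7.genFib R K).obj N) ↔ ∃ g, φ g = x := fun x =>
    (Dict.exists_secΩ_iff R K Ω N hN x).symm
  let θ : (𝟙_ (Over (Spec (CommRingCat.of R))) ⟶ opn N (neutral N h0)) →*
      SGA7.Pts Ω ((SGA7.genFib R K).obj N) := φ.comp (postHom _ (opnι N (neutral N h0)))
  have hθi : Function.Injective θ := hφi.comp fun x y hxy => (cancel_mono (opnι N (neutral N h0))).mp hxy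
  have hlift : ∀ x ∈ W₀, ∃ w, θ w = x := by
    intro x hx
    obtain ⟨r, hr⟩ := (hφF x).1 (hfix hx)
    obtain ⟨w, hw⟩ := CoreAux.exists_lift_of_divisible N h0 t ht (W₀.comap φ) hl
      (fun w hw => by
        obtain ⟨v, hv, hvw⟩ := hdiv₀ _ (Subgroup.mem_comap.1 hw)
        obtain ⟨v', hv'⟩ := (hφF v).1 (hfix hv)
        refine ⟨v', ?_, ?_⟩
        · rw [Subgroup.mem_comap, hv']
          exact hv
        · apply hφi
          rw [map_pow, hv', hvw])
      (fun w hw => by
        obtain ⟨m, hm⟩ := htor₀ _ (Subgroup.mem_comap.1 hw)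
        exact ⟨m, hφi (by rw [map_pow, hm, map_one])⟩) r (by rw [Subgroup.mem_comap, hr]; exact hx)
    refine ⟨w, ?_⟩
    change φ (w ≫ opnι N (neutral N h0)) = x
    rw [hw, hr]
  let W_G : Subgroup (𝟙_ (Over (Spec (CommRingCat.of R))) ⟶ opn N (neutral N h0)) := W₀.comap θ
  let eW : W_G ≃* W₀ := MulEquiv.ofBijective ((θ.comp W_G.subtype).codRestrict W₀ (fun w => w.2))
    ⟨fun x y hxy => Subtype.ext (hθi (congrArg Subtype.val hxy)), fun x => by
      obtain ⟨w, hw⟩ := hlift x.1 x.2
      refine ⟨⟨w, ?_⟩, Subtype.ext hw⟩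
      rw [Subgroup.mem_comap, hw]
      exact x.2⟩
  let eP : (𝟙_ (Over (Spec (CommRingCat.of R))) ⟶ N) ≃* Fix (Ω := Ω) ((SGA7.genFib R K).obj N) :=
    MulEquiv.ofBijective (φ.codRestrict _ (fun w => (hφF _).2 ⟨w, rfl⟩))
    ⟨fun x y hxy => hφi (congrArg Subtype.val hxy), fun x => by
      obtain ⟨w, hw⟩ := (hφF x.1).1 x.2
      exact ⟨w, Subtype.ext hw⟩⟩
  set H := Red.bc t (opn N (neutral N h0)) with hH
  let bp : (𝟙_ (Over (Spec (CommRingCat.of R))) ⟶ opn N (neutral N h0)) →* (𝟙_ _ ⟶ H) := bcPt t (opn N (neutral N h0))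
  let W_H : Subgroup (𝟙_ _ ⟶ H) := W_G.map bp
  have hbp : ∀ (m : ℕ) (x : 𝟙_ (Over (Spec (CommRingCat.of R))) ⟶ opn N (neutral N h0)),
      x ^ (l ^ m) = 1 → bp x = 1 → x = 1 := by
    intro m x hx hx'
    have h1 : toUnit (CoreAux.TT t) ≫ x = 1 :=
      (map_eq_one_iff _ (Sga3B.BcPts.bcMulEquiv t (𝟙_ _) (opn N (neutral N h0))).injective).1 hx'
    exact eq_one_of_special (l ^ m) (CoreAux.etale_pow_pow _ hlp m) (CoreAux.TT t) (CoreAux.tt t)
      (CoreAux.hom_tt t ht) x hx h1
  have hTL : TL (↥W_H × (𝟙_ _ ⟶ H)) l (2 * n) := by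
    have h1 : TL (↥W₀ × (𝟙_ (Over (Spec (CommRingCat.of R))) ⟶ N)) l (2 * n) :=
      CoreAux.TL_prod_of_injOn eP.symm.toMonoidHom (fun m x _ hx' =>
        (map_eq_one_iff _ eP.symm.injective).1 hx') hTL₀
    have h2 : TL (↥W₀ × (𝟙_ _ ⟶ H)) l (2 * n) := CoreAux.TL_prod_bc N h0 t ht hlp h1
    refine CoreAux.TL_prod_left_of_injOn ((bp.subgroupMap W_G).comp eW.symm.toMonoidHom) (fun m x hx hx' => ?_) h2
    have h3 : bp (eW.symm x).1 = 1 := congrArg Subtype.val hx'
    have h4 : (eW.symm x).1 ^ (l ^ m) = 1 := by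
      have : (eW.symm x) ^ (l ^ m) = 1 := by rw [← map_pow, hx, map_one]
      exact congrArg Subtype.val this
    have h5 : eW.symm x = 1 := Subtype.ext (hbp m _ h4 h3)
    exact (map_eq_one_iff _ eW.symm.injective).1 h5
  have hdivH : ∀ w ∈ W_H, ∃ v ∈ W_H, v ^ l = w := by
    rintro _ ⟨w, hw, rfl⟩
    obtain ⟨v, hv, hvw⟩ := hdiv₀ _ (Subgroup.mem_comap.1 hw)
    obtain ⟨v', hv'⟩ := hlift v hv
    refine ⟨bp v', ⟨v', ?_, rfl⟩, ?_⟩
    · change v' ∈ W₀.comap θ
      rw [Subgroup.mem_comap, hv']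
      exact hv
    · rw [← map_pow]
      congr 1
      apply hθi
      rw [map_pow, hv', hvw]
  have htorH : ∀ w ∈ W_H, ∃ m : ℕ, w ^ (l ^ m) = 1 := by
    rintro _ ⟨w, hw, rfl⟩
    obtain ⟨m, hm⟩ := htor₀ _ (Subgroup.mem_comap.1 hw)
    refine ⟨m, ?_⟩
    rw [← map_pow]
    have h1 : w ^ (l ^ m) = 1 := hθi (by rw [map_pow, hm, map_one])
    rw [h1, map_one]
  -- the ample class
  obtain ⟨L, hL⟩ := exists_ample R K (opn N (neutral N h0)) hirr
  have haff : IsAffineHom (pullback.fst (opn N (neutral N h0)).hom t) :=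
    MorphismProperty.pullback_fst (P := @IsAffineHom) _ _ (isAffineHom_of_isAffine t)
  have hM : CohB1.IsAmple ((Scheme.Modules.pullback (pullback.fst (opn N (neutral N h0)).hom t)).obj L) :=
    CalgB.AmpleBase.isAmple_pullback _ hL fun _ => ⟨⊤, trivial, fun _ _ hV => hV.preimage _⟩
  have hinv : ∀ w ∈ W_H, w ∈ CoreAux.fixing (G := H) (mk _ hM.1) := by
    let Inv : Subgroup (𝟙_ (Over (Spec (CommRingCat.of R))) ⟶ opn N (neutral N h0)) :=
      (CoreAux.fixing (G := H) (mk _ hM.1)).comap bp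
    have h1 : W₀ ≤ Inv.map θ := by
      refine (Subgroup.closure_le _).2 ?_
      rintro _ ⟨σ, z, m, hz, rfl⟩
      obtain ⟨w, hw⟩ := hlift (SGA7.dev σ z) (Subgroup.subset_closure ⟨σ, z, m, hz, rfl⟩)
      refine ⟨w, ?_, hw⟩
      have h2 : Dict.secΩ R K Ω (opn N (neutral N h0)) w =
          SGA7.dev σ (z ≫ inv ((SGA7.genFib R K).map (opnι N (neutral N h0)))) := by
        rw [← cancel_mono ((SGA7.genFib R K).map (opnι N (neutral N h0))), ← secΩ_comp, ← Cond.dev_comp,
          Category.assoc, IsIso.inv_hom_id, Category.comp_id]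
        exact hw
      have h3 := hO1 R K Ω (opn N (neutral N h0)) hsm0 hsep0 hqc0 hgi hirr (mk L hL.1) w σ _ h2 _ t ht
      exact h3
    rintro _ ⟨w, hw, rfl⟩
    obtain ⟨w', hw', hww'⟩ := h1 (Subgroup.mem_comap.1 hw)
    rw [hθi hww'] at hw'
    exact hw'
  -- the closure
  have sH : Smooth H.hom := inferInstanceAs (Smooth (pullback.snd (opn N (neutral N h0)).hom t))
  have qH : QuasiCompact H.hom := inferInstanceAs (QuasiCompact (pullback.snd (opn N (neutral N h0)).hom t))
  have pH : IsSeparated H.hom := inferInstanceAs (IsSeparated (pullback.snd (opn N (neutral N h0)).hom t))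
  have kH : ConnectedSpace ↥H.left := connectedSpace_bc_neutral N h0 t
  have cH : IsCommMonObj H := inferInstance
  obtain ⟨Y, gY, i, hi, hci, sY, qY, kY, hlY, hdY⟩ :=
    Closure.exists_closure_connected H W_H l hl hdivH htorH
  have hmi : Mono i := Over.mono_of_mono_left i
  have cY : IsCommMonObj Y := H620.TorsCount.isCommMonObj_of_mono i
  have pY : IsSeparated Y.hom := by
    rw [← Over.w i]
    infer_instance
  have hLY : CohB1.IsAmple ((Scheme.Modules.pullback i.left).obj
      ((Scheme.Modules.pullback (pullback.fst (opn N (neutral N h0)).hom t)).obj L)) :=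
    CalgB.AmpleBase.isAmple_pullback i.left hM fun _ => ⟨⊤, trivial, fun _ _ hV => hV.preimage i.left⟩
  have hii : Function.Injective (postHom (𝟙_ _) i) := fun x y hxy => (cancel_mono i).mp hxy
  have aY : IsAffine Y.left := by
    refine hC3 _ Y sY qY pY kY _ hLY (W_H.comap (postHom (𝟙_ _) i)) hdY l hl hlk ?_ ?_ ?_
    · intro w hw
      obtain ⟨m, hm⟩ := htorH _ (Subgroup.mem_comap.1 hw)
      exact ⟨m, hii (by rw [map_pow, hm, map_one])⟩
    · intro w hw
      obtain ⟨v, hv, hvw⟩ := hdivH _ (Subgroup.mem_comap.1 hw)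
      obtain ⟨v', hv'⟩ := hlY v hv
      have hv'' : postHom (𝟙_ _) i v' = v := hv'
      refine ⟨v', ?_, hii ?_⟩
      · rw [Subgroup.mem_comap, hv'']
        exact hv
      · rw [map_pow, hv'', hvw]
    · intro w hw
      exact CoreAux.pull_tr_comp i w (hinv _ (Subgroup.mem_comap.1 hw))
  exact hC4 _ l hl hlk H n (hn _ t) Y i W_H hlY hTL

end Main

end Groth.Agent.Sga7.H729.Core
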